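import Groth.Agent.ProjCohTwLib.FT
import Groth.Agent.ProjGenLib.Twist
import Groth.Agent.ProjTopLib.Noeth
import Groth.Agent.ProjTopLib.FG
import Groth.Agent.AmpleAffLib.Gen
import Groth.Agent.SerreVanLib.Main
import Groth.Agent.S2297
import Groth.Agent.QCohLib.Coherent

/-!
# Coherent modules on `Proj` of a Noetherian graded ring
-/

set_option autoImplicit false
set_option linter.style.haveILetI false
universe u
open CategoryTheory CategoryTheory.Limits AlgebraicGeometry TopologicalSpace Opposite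

noncomputable section

namespace ProjCohTwLib

variable {R A : Type u} [CommRing R] [CommRing A] [Algebra R A] (𝒜 : ℕ → Submodule R A) [GradedAlgebra 𝒜]
  [IsNoetherianRing A]

theorem isNoetherian_proj : IsNoetherianRing (𝒜 0) ∧ Algebra.FiniteType (𝒜 0) A :=
  (ProjTopLib.isNoetherianRing_iff 𝒜).mp inferInstance

theorem isLocallyNoetherian : IsLocallyNoetherian (Proj 𝒜) := by
  obtain ⟨h0, hft⟩ := isNoetherian_proj 𝒜
  exact LocallyOfFiniteType.isLocallyNoetherian (Proj.toSpecZero 𝒜)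

theorem exists_degree : ∃ d : ℕ, 0 < d ∧ (∀ x : Proj 𝒜, ∃ g ∈ 𝒜 d, g ∉ x.asHomogeneousIdeal) ∧
    CompactSpace (Proj 𝒜) := by
  classical
  obtain ⟨s, hs, hspan⟩ := ProjTopLib.exists_homogeneous_gens 𝒜 (IsNoetherian.noetherian _)
  choose! deg hdpos hdeg using hs
  have hcov : ∀ x : Proj 𝒜, ∃ e ∈ s, e ∉ x.asHomogeneousIdeal := fun x => by
    by_contra hne
    push Not at hne
    exact x.not_irrelevant_le fun a ha => (Ideal.span_le.mpr fun b hb => hne b hb) (hspan.le ha)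
  refine ⟨∏ e ∈ s, deg e, Finset.prod_pos fun e he => hdpos e he, fun x => ?_, ⟨?_⟩⟩
  · obtain ⟨e, he, hex⟩ := hcov x
    refine ⟨e ^ ((∏ e ∈ s, deg e) / deg e), ?_, fun h => hex (x.isPrime.mem_of_pow_mem _ h)⟩
    have := SetLike.pow_mem_graded ((∏ e ∈ s, deg e) / deg e) (hdeg e he)
    rwa [smul_eq_mul, Nat.div_mul_cancel (Finset.dvd_prod_of_mem _ he)] at this
  · have h : (Set.univ : Set (Proj 𝒜)) = ⋃ e : {e // e ∈ s}, (Proj.basicOpen 𝒜 e.1 : Set (Proj 𝒜)) :=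
      (Set.eq_univ_of_forall fun x => by
        obtain ⟨e, he, hex⟩ := hcov x
        exact Set.mem_iUnion.mpr ⟨⟨e, he⟩, hex⟩).symm
    rw [h]
    exact isCompact_iUnion fun e => (Proj.isAffineOpen_basicOpen 𝒜 e.1 (hdeg _ e.2) (hdpos _ e.2)).isCompact

variable {d : ℕ} (hcov : ∀ x : Proj 𝒜, ∃ g ∈ 𝒜 d, g ∉ x.asHomogeneousIdeal)

include hcov in
omit [IsNoetherianRing A] in
theorem iSup_eq_top : (⨆ g : 𝒜 d, Proj.basicOpen 𝒜 (g : A)) = ⊤ :=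
  eq_top_iff.mpr fun x _ => by
    obtain ⟨g, hg, hgx⟩ := hcov x
    exact Opens.mem_iSup.mpr ⟨⟨g, hg⟩, hgx⟩

include hcov in
omit [IsNoetherianRing A] in
theorem isInvertible : PicF.IsInvertible (Twist.twist 𝒜 (d : ℤ)) :=
  GrTwistLib.twist_isInvertible_self 𝒜 hcov

omit [IsNoetherianRing A] in
theorem unit_iso : Nonempty (Twist.twist 𝒜 0 ≅ Coh.structureModule (Proj 𝒜)) := by
  let u : TwistLib.Unit' 𝒜 0 (⊤ : (Proj 𝒜).Opens) := ⟨0, 0, 1, 1, SetLike.GradedOne.one_mem,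
    SetLike.GradedOne.one_mem, by simp, fun x h => x.1.isPrime.ne_top ((Ideal.eq_top_iff_one _).mpr h),
    fun x h => x.1.isPrime.ne_top ((Ideal.eq_top_iff_one _).mpr h)⟩
  have := AmpleLib.isIso_unitHom u.sec u.genOn
  exact ⟨(asIso (QCohLib.unitHom _ u.sec)).symm⟩

include hcov in
omit [IsNoetherianRing A] in
theorem pow_iso (k : ℕ) :
    Nonempty (CohB1.tensorPow (Twist.twist 𝒜 (d : ℤ)) k ≅ Twist.twist 𝒜 ((k : ℤ) * d)) := by
  induction k with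
  | zero =>
    obtain ⟨e⟩ := unit_iso 𝒜
    exact ⟨e.symm ≪≫ eqToIso (congrArg (Twist.twist 𝒜) (by simp))⟩
  | succ k ih =>
    obtain ⟨i⟩ := ih
    obtain ⟨e⟩ := ProjGenLib.nonempty_tensor_twist 𝒜 hcov (k : ℤ) (d : ℤ)
    exact ⟨PicGrp.tensorModIso i (Iso.refl _) ≪≫ e ≪≫ eqToIso (congrArg (Twist.twist 𝒜) (by push_cast; ring))⟩

theorem isCoh_twist (r : ℤ) : Coh.IsCoh (Twist.twist 𝒜 r) := by
  have hfg : (HomogeneousIdeal.irrelevant 𝒜).toIdeal.FG := IsNoetherian.noetherian _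
  have hQ := GrTildeLib.isQCoh_tilde (𝒜 := 𝒜) (ℳ := 𝒜) r
  exact QCohLib.isCoh_of_iso (GrTildeLib.twistIsoTilde 𝒜 r).symm
    ⟨hQ, isFT_tilde 𝒜 hfg r ⟨0, IsNoetherian.noetherian _⟩⟩

variable {𝒜} in
omit [IsNoetherianRing A] in
theorem isCoh_tensorMod {F G : (Proj 𝒜).Modules} (hF : Coh.IsCoh F) (hG : Coh.IsCoh G) :
    Coh.IsCoh (CohB1.tensorMod F G) := by
  haveI := hF.1
  haveI := hG.1
  obtain ⟨h1, h2⟩ := Groth.Agent.S2297.result F G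
  exact ⟨h1, h2 hF.2 hG.2⟩

/-- Serre vanishing on `Proj`. -/
theorem serre_vanishing (F : (Proj 𝒜).Modules) (hF : Coh.IsCoh F) :
    ∃ d₀ : ℤ, ∀ n : ℤ, d₀ ≤ n → ∀ p : ℕ, 0 < p → Subsingleton (Coh.HH (Proj 𝒜) (Twist.twistBy 𝒜 F n) p) := by
  obtain ⟨h0, hft⟩ := isNoetherian_proj 𝒜
  obtain ⟨d, hd, hcov, hc⟩ := exists_degree 𝒜
  haveI := isLocallyNoetherian 𝒜
  let L := Twist.twist 𝒜 (d : ℤ)
  have hL : PicF.IsInvertible L := isInvertible 𝒜 hcov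
  have hA : CohB1.IsAmple L := ProjGenLib.isAmple_twist 𝒜 hd (iSup_eq_top 𝒜 hcov)
  choose n₀ hn₀ using fun r : Fin d => SerreVanLib.exists_vanishing (R := 𝒜 0) (Proj.toSpecZero 𝒜) hL hA
    (CohB1.tensorMod F (Twist.twist 𝒜 (r : ℤ))) (isCoh_tensorMod hF (isCoh_twist 𝒜 r))
  refine ⟨((d * (∑ r, n₀ r + 1) : ℕ) : ℤ), fun n hn p hp => ?_⟩
  obtain ⟨m, rfl⟩ := Int.eq_ofNat_of_zero_le ((Int.natCast_nonneg _).trans hn)
  have hn' : d * (∑ r, n₀ r + 1) ≤ m := by exact_mod_cast hn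
  obtain ⟨e₁⟩ := pow_iso 𝒜 hcov (m / d)
  obtain ⟨e₂⟩ := ProjGenLib.nonempty_tensor_twist 𝒜 hcov ((m / d : ℕ) : ℤ) ((m % d : ℕ) : ℤ)
  have e : CohB1.tensorMod (CohB1.tensorMod F (Twist.twist 𝒜 ((m % d : ℕ) : ℤ))) (CohB1.tensorPow L (m / d)) ≅
      Twist.twistBy 𝒜 F (m : ℤ) :=
    HilbPolyLib.assocIso _ _ _ ≪≫ PicGrp.tensorModIso (Iso.refl F)
      (HilbPolyLib.swapIso _ _ ≪≫ PicGrp.tensorModIso e₁ (Iso.refl _) ≪≫ e₂ ≪≫
        eqToIso (congrArg (Twist.twist 𝒜) (by exact_mod_cast Nat.div_add_mod' m d)))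
  refine SerreVanLib.subsingleton_HH_of_iso e.symm p (hn₀ ⟨m % d, Nat.mod_lt _ hd⟩ (m / d) ?_ p hp)
  have h1 := Finset.single_le_sum (f := n₀) (fun _ _ => Nat.zero_le _)
    (Finset.mem_univ (⟨m % d, Nat.mod_lt _ hd⟩ : Fin d))
  have h2 : ∑ r, n₀ r + 1 ≤ m / d := (Nat.le_div_iff_mul_le hd).mpr (by rwa [mul_comm])
  omega

/-- Coherent modules are quotients of sums of twists. -/
theorem exists_epi (F : (Proj 𝒜).Modules) (hF : Coh.IsCoh F) :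
    ∃ (r : ℕ) (n : Fin r → ℤ) (φ : (∐ fun j : Fin r => Twist.twist 𝒜 (n j)) ⟶ F), Epi φ := by
  obtain ⟨d, hd, hcov, hc⟩ := exists_degree 𝒜
  let L := Twist.twist 𝒜 (d : ℤ)
  have hL : PicF.IsInvertible L := isInvertible 𝒜 hcov
  choose g hg hgx using hcov
  have hS : ∀ x, TwistLib.genSet hL (show Γ(L, ⊤) from Twist.globalOf 𝒜 ⟨g x, hg x⟩) = Proj.basicOpen 𝒜 (g x) :=
    fun x => GrTwistLib.genSet_globalOf 𝒜 hL (fun y => ⟨g y, hg y, hgx y⟩) ⟨g x, hg x⟩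
  haveI := hF.1
  obtain ⟨k, x, N, π, -, hπ⟩ := AmpleAffLib.exists_epi_biproduct (P := fun _ => L) (fun _ => hL)
    (fun x => Twist.globalOf 𝒜 ⟨g x, hg x⟩) (fun x => by rw [hS]; exact hgx x)
    (fun x => by rw [hS]; exact Proj.isAffineOpen_basicOpen 𝒜 (g x) (hg x) hd) F hF.2
  have hcov' : ∀ y : Proj 𝒜, ∃ f ∈ 𝒜 d, f ∉ y.asHomogeneousIdeal := fun y => ⟨g y, hg y, hgx y⟩
  have hiso : ∀ a, Nonempty (Twist.twist 𝒜 (-((N a : ℤ) * d)) ≅ MiscFlat6.dual (CohB1.tensorPow L (N a))) := by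
    intro a
    obtain ⟨e⟩ := pow_iso 𝒜 hcov' (N a)
    obtain ⟨e'⟩ := ProjGenLib.nonempty_tensor_twist 𝒜 hcov' (N a : ℤ) (-((N a : ℤ) * d))
    obtain ⟨u⟩ := unit_iso 𝒜
    obtain ⟨v⟩ := MiscFlat6.nonempty_dualIso (AmpleThLib.tensorPow_isInvertible hL (N a))
    exact AmpleAffLib.nonempty_iso_of_inverse_unique
      (PicGrp.tensorModIso e (Iso.refl _) ≪≫ e' ≪≫ eqToIso (congrArg (Twist.twist 𝒜) (by ring)) ≪≫ u) v
  let i := fun a => (hiso a).some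
  refine ⟨k, fun a => -((N a : ℤ) * d),
    Sigma.desc fun a => (i a).hom ≫ biproduct.ι (fun b => MiscFlat6.dual (CohB1.tensorPow L (N b))) a ≫ π,
    Preadditive.epi_of_cancel_zero _ fun q h => ?_⟩
  rw [← cancel_epi π, comp_zero]
  refine biproduct.hom_ext' _ _ fun a => ?_
  rw [comp_zero, ← cancel_epi (i a).hom, comp_zero]
  have := congrArg (fun t => Sigma.ι (fun b => Twist.twist 𝒜 (-((N b : ℤ) * d))) a ≫ t) h
  simpa using this

end ProjCohTwLib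

end
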