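import Groth.Agent.GrTildeLib.FT

/-!
# Finite type of `M~(p)` for an arbitrary integer `p`
-/

set_option autoImplicit false
universe u

open CategoryTheory CategoryTheory.Limits AlgebraicGeometry TopologicalSpace Opposite TopCat HomogeneousLocalization

noncomputable section

namespace ProjCohTwLib
open GrTildeLib (exists_veronese_gens exists_tail_gens exists_eq_frac exists_homogeneous_coeff sec_ext val val_sum mk_sum mk_congr fracSec val_fracSec val_awayToSection pow_nin isQCoh_tilde)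

variable {R A : Type u} [CommRing R] [CommRing A] [Algebra R A] (𝒜 : ℕ → Submodule R A) [GradedAlgebra 𝒜]
variable {M : Type u} [AddCommGroup M] [Module R M] [Module A M] {ℳ : ℕ → Submodule R M} [SetLike.GradedSMul 𝒜 ℳ]
  [DirectSum.Decomposition ℳ]

theorem isFT_tilde (hfg : (HomogeneousIdeal.irrelevant 𝒜).toIdeal.FG) (p : ℤ)
    (hTF : ∃ n : ℕ, (Submodule.span A (⋃ k ∈ Set.Ici n, (ℳ k : Set M))).FG) :
    CohB1.IsFT (GrTilde.tilde 𝒜 ℳ p) := by
  classical
  have := isQCoh_tilde (𝒜 := 𝒜) (ℳ := ℳ) p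
  refine QCohLib.isFT_of_finite fun x => ?_
  obtain ⟨d, f, hd, hf, hfx⟩ := ProjTopLib.exists_pos_not_mem 𝒜 x
  refine ⟨Proj.basicOpen 𝒜 f, Proj.isAffineOpen_basicOpen 𝒜 f hf hd, hfx, ?_⟩
  obtain ⟨n, s, hs, hgens⟩ := exists_tail_gens hTF
  choose! degz hdegn hdegz using hs
  obtain ⟨μ, degμ, hdegμ, hμ⟩ := exists_veronese_gens 𝒜 hfg hd
  let j : ℕ := p.natAbs
  let l : ℕ → ℕ := fun q => (((q + j * d : ℕ) : ℤ) - p).toNat / d
  have hl : ∀ q : ℕ, (d : ℤ) ∣ (q : ℤ) - p → ((j * d + q : ℕ) : ℤ) = (l q * d : ℕ) + p := by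
    intro q hq
    have h1 : (p.natAbs : ℤ) * 1 ≤ (p.natAbs : ℤ) * (d : ℤ) :=
      mul_le_mul_of_nonneg_left (by exact_mod_cast hd) (Int.natCast_nonneg _)
    have h0 : 0 ≤ ((q + j * d : ℕ) : ℤ) - p := by
      push_cast
      have h2 : p ≤ (p.natAbs : ℤ) := Int.le_natAbs
      have h3 : (0 : ℤ) ≤ q := Int.natCast_nonneg q
      simp only [j]
      linarith
    have hdvd : d ∣ (((q + j * d : ℕ) : ℤ) - p).toNat := by
      rw [← Int.natCast_dvd_natCast, Int.toNat_of_nonneg h0]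
      have : ((q + j * d : ℕ) : ℤ) - p = ((q : ℤ) - p) + j * d := by push_cast; ring
      rw [this]
      exact hq.add (dvd_mul_left _ _)
    simp only [l]
    rw [Nat.div_mul_cancel hdvd, Int.toNat_of_nonneg h0]
    push_cast
    ring
  let e : A × M → Γ(GrTilde.tilde 𝒜 ℳ p, Proj.basicOpen 𝒜 f) := fun w =>
    if h : w.1 ∈ μ ∧ w.2 ∈ s ∧ (d : ℤ) ∣ ((degμ w.1 + degz w.2 : ℕ) : ℤ) - p then
      fracSec (show f ^ j • w.1 • w.2 ∈ ℳ (j * d + (degμ w.1 + degz w.2)) from
          SetLike.GradedSMul.smul_mem (SetLike.pow_mem_graded j hf)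
            (SetLike.GradedSMul.smul_mem (hdegμ _ h.1) (hdegz _ h.2.1)))
        (SetLike.pow_mem_graded (l (degμ w.1 + degz w.2)) hf)
        (by rw [smul_eq_mul]; exact hl _ h.2.2) (fun y => pow_nin y _)
    else 0
  refine Module.Finite.of_fg_top ⟨(μ ×ˢ s).image e, eq_top_iff.mpr fun t _ => ?_⟩
  obtain ⟨k, i, m, hm, hi, ht⟩ := exists_eq_frac hd hf t
  let K := k + n
  let D' := n * d + i
  have hD : (D' : ℤ) = K * d + p := by simp only [D', K]; push_cast; rw [hi]; ring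
  have hm' : f ^ n • m ∈ ℳ D' := SetLike.GradedSMul.smul_mem (SetLike.pow_mem_graded n hf) hm
  have hKn : n ≤ D' := (Nat.le_mul_of_pos_right _ hd).trans (Nat.le_add_right _ _)
  obtain ⟨a, ha, hsum⟩ := exists_homogeneous_coeff (𝒜 := 𝒜) hdegz hm' (hgens _ hKn _ hm')
  choose b hb hbsum using fun z (hz : z ∈ s ∧ degz z ≤ D') => hμ _ (a z) (ha z hz.1 hz.2)
  let T := (μ ×ˢ s).filter fun w => degz w.2 ≤ D' ∧ degμ w.1 ≤ D' - degz w.2 ∧ d ∣ D' - degz w.2 - degμ w.1
  let coef : A × M → Γ(Proj 𝒜, Proj.basicOpen 𝒜 f) := fun w =>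
    if h : w.1 ∈ μ ∧ (w.2 ∈ s ∧ degz w.2 ≤ D') ∧ degμ w.1 ≤ D' - degz w.2 ∧ d ∣ D' - degz w.2 - degμ w.1 then
      Proj.awayToSection 𝒜 f (Away.mk 𝒜 hf ((D' - degz w.2 - degμ w.1) / d) (b w.2 h.2.1 w.1)
        (by rw [smul_eq_mul, Nat.div_mul_cancel h.2.2.2]; exact hb w.2 h.2.1 w.1 h.1 h.2.2.1 h.2.2.2))
    else 0
  have key : t = ∑ w ∈ T, coef w • e w := by
    refine sec_ext fun y => ?_
    rw [val_sum]
    have hterm : ∀ w ∈ T, val (coef w • e w) y =
        LocalizedModule.mk ((if h : w.2 ∈ s ∧ degz w.2 ≤ D' then b w.2 h w.1 * w.1 else 0) • w.2)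
          ⟨f ^ K, pow_nin y K⟩ := by
      intro w hp
      obtain ⟨hmem, h1, h2, h3⟩ := Finset.mem_filter.mp hp
      obtain ⟨hpμ, hps⟩ := Finset.mem_product.mp hmem
      have h3' := h3
      obtain ⟨c, hc⟩ := h3
      obtain ⟨q, hqdef⟩ : ∃ q, q = degμ w.1 + degz w.2 := ⟨_, rfl⟩
      have hq : (D' : ℤ) = q + c * d := by
        have h4 : D' = q + d * c := by omega
        rw [h4]; push_cast; ring
      have hdvd : (d : ℤ) ∣ (q : ℤ) - p := ⟨(K : ℤ) - c, by linarith [hD, hq]⟩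
      have hKl : c + l q = K + j := by
        have h5 := hl q hdvd
        push_cast at h5
        have h6 : ((c + l q : ℕ) : ℤ) * d = ((K + j : ℕ) : ℤ) * d := by push_cast; linarith [hD, hq, h5]
        exact_mod_cast mul_right_cancel₀ (by exact_mod_cast hd.ne' : (d : ℤ) ≠ 0) h6
      subst hqdef
      simp only [coef, e, dif_pos (And.intro hpμ (And.intro (And.intro hps h1) (And.intro h2 h3'))),
        dif_pos (And.intro hpμ (And.intro hps hdvd)), dif_pos (And.intro hps h1)]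
      rw [GrTildeLib.val_smul, val_fracSec]
      erw [val_awayToSection, LocalizedModule.mk_smul_mk]
      refine mk_congr ?_
      change f ^ K • b w.2 _ w.1 • f ^ j • w.1 • w.2 = (f ^ ((D' - degz w.2 - degμ w.1) / d) *
        f ^ (l (degμ w.1 + degz w.2))) • (b w.2 _ w.1 * w.1) • w.2
      have e1 : (D' - degz w.2 - degμ w.1) / d = c := by rw [hc, Nat.mul_div_cancel_left _ hd]
      simp only [e1, smul_smul]
      rw [← pow_add, hKl]
      refine congrArg (· • w.2) ?_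
      simp only [K, pow_add]
      ring
    rw [Finset.sum_congr rfl hterm, ← mk_sum, ht y]
    refine mk_congr ?_
    change f ^ K • m = f ^ k • _
    rw [pow_add, mul_smul, hsum]
    congr 1
    simp only [T, Finset.sum_filter, Finset.sum_product]
    rw [Finset.sum_comm]
    refine Finset.sum_congr rfl fun z hz => ?_
    by_cases hle : degz z ≤ D'
    · rw [if_pos hle, hbsum z ⟨hz, hle⟩, Finset.sum_smul, Finset.sum_filter]
      refine Finset.sum_congr rfl fun x _ => ?_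
      simp only [hle, hz, true_and, and_self, dite_true]
    · rw [if_neg hle]
      exact (Finset.sum_eq_zero fun x _ => if_neg fun h => hle h.1).symm
  rw [key]
  exact Submodule.sum_mem _ fun w hw => Submodule.smul_mem _ _ (Submodule.subset_span
    (Finset.mem_coe.mpr (Finset.mem_image_of_mem _ (Finset.mem_filter.mp hw).1)))

end ProjCohTwLib

end
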